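import Mathlib
import Groth.Prelude
import Groth.Agent.Lib.Helper4.FTDim1
import Groth.Agent.Lib.Helper4.Chev3
import Groth.Agent.Lib.Helper4.TopDim1
import Groth.Agent.Lib.Helper4.JacDim4

set_option linter.style.haveILetI false
set_option linter.unusedVariables false
set_option linter.unusedSectionVars false
set_option autoImplicit false
set_option backward.isDefEq.respectTransparency.types false
set_option synthInstance.maxHeartbeats 400000
set_option maxHeartbeats 800000

universe u

/-! helper7: helper7: proper surjective morphisms with irreducible equidimensional closed fibres over an irreducible base (source irreducible, dimensions add), via semicontinuity of fibre dimension -/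

open CategoryTheory CategoryTheory.Limits AlgebraicGeometry TopologicalSpace

namespace Groth.Agent.Helper7.IrrFibres

theorem natCast_ne_top' (m : ℕ) : ((m : ℕ) : WithBot ℕ∞) ≠ ⊤ := by
  intro h
  have h2 : ((m : ℕ∞) : WithBot ℕ∞) = ((⊤ : ℕ∞) : WithBot ℕ∞) := h
  exact ENat.natCast_ne_top m (WithBot.coe_injective h2)

theorem succ_le_of_not_le (t : WithBot ℕ∞) (m' : ℕ) (h : ¬ t ≤ (m' : WithBot ℕ∞)) :
    ((m' + 1 : ℕ) : WithBot ℕ∞) ≤ t := by
  induction t using WithBot.recBotCoe with
  | bot => exact absurd bot_le h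
  | coe e =>
    induction e using ENat.recTopCoe with
    | top =>
      rw [← WithBot.coe_natCast]
      exact WithBot.coe_le_coe.mpr le_top
    | coe n =>
      have h1 : ¬ n ≤ m' := fun hn => h (by exact_mod_cast hn)
      have h2 : m' + 1 ≤ n := by omega
      exact_mod_cast h2

/-- If the fibres of a proper surjective morphism over the closed points of a Jacobson scheme all
have dimension `m`, so do all fibres. -/
theorem fibre_dim_const {X Y : Scheme.{u}} [JacobsonSpace ↥Y] (f : X ⟶ Y) [IsProper f]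
    (hsurj : Function.Surjective f) (m : ℕ)
    (hdim : ∀ y : ↥Y, IsClosed ({y} : Set ↥Y) → topologicalKrullDim ↥(f.fiber y) = m) (y : ↥Y) :
    topologicalKrullDim ↥(f.fiber y) = m := by
  apply le_antisymm
  · have hcl : IsClosed {y : ↥Y | ((m + 1 : ℕ) : WithBot ℕ∞) ≤ topologicalKrullDim ↥(f.fiber y)} :=
      Groth.Agent.Lib.Helper4.Chev3.S3387_main f f.isClosedMap (m + 1)
    have hempty : {y : ↥Y | ((m + 1 : ℕ) : WithBot ℕ∞) ≤ topologicalKrullDim ↥(f.fiber y)} = ∅ := by
      by_contra hne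
      obtain ⟨y₀, hy₀, hy₀c⟩ := nonempty_inter_closedPoints (Set.nonempty_iff_ne_empty.mpr hne)
        hcl.isLocallyClosed
      have h1 : ((m + 1 : ℕ) : WithBot ℕ∞) ≤ topologicalKrullDim ↥(f.fiber y₀) := hy₀
      rw [hdim y₀ hy₀c] at h1
      have h2 : m + 1 ≤ m := by exact_mod_cast h1
      omega
    have hy : ¬ ((m + 1 : ℕ) : WithBot ℕ∞) ≤ topologicalKrullDim ↥(f.fiber y) := by
      intro h
      have h1 : y ∈ {y : ↥Y | ((m + 1 : ℕ) : WithBot ℕ∞) ≤ topologicalKrullDim ↥(f.fiber y)} := h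
      rw [hempty] at h1
      exact h1
    exact Groth.Agent.Lib.Helper4.Chev3.withBot_lt_natCast_succ (not_le.mp hy)
  · rcases Nat.eq_zero_or_pos m with hm | hm
    · subst hm
      obtain ⟨x, hx⟩ := hsurj y
      haveI : Nonempty ↥(f.fiber y) := ⟨(f.fiberHomeo y).symm ⟨x, hx⟩⟩
      haveI : Nonempty (IrreducibleCloseds ↥(f.fiber y)) :=
        ⟨⟨closure {Classical.arbitrary _}, isIrreducible_singleton.closure, isClosed_closure⟩⟩
      have h0 : (0 : WithBot ℕ∞) ≤ topologicalKrullDim ↥(f.fiber y) := Order.krullDim_nonneg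
      exact_mod_cast h0
    · obtain ⟨m', rfl⟩ : ∃ m', m = m' + 1 := ⟨m - 1, by omega⟩
      have hop : IsOpen {s : ↥Y | topologicalKrullDim ↥(f.fiber s) ≤ (m' : WithBot ℕ∞)} :=
        Groth.Agent.Lib.Helper4.Chev3.S0403_main f (m' : WithBot ℕ∞)
      have hempty : {s : ↥Y | topologicalKrullDim ↥(f.fiber s) ≤ (m' : WithBot ℕ∞)} = ∅ := by
        by_contra hne
        obtain ⟨y₀, hy₀, hy₀c⟩ := nonempty_inter_closedPoints (Set.nonempty_iff_ne_empty.mpr hne)
          hop.isLocallyClosed
        have h1 : topologicalKrullDim ↥(f.fiber y₀) ≤ (m' : WithBot ℕ∞) := hy₀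
        rw [hdim y₀ hy₀c] at h1
        have h2 : m' + 1 ≤ m' := by exact_mod_cast h1
        omega
      have hy : ¬ topologicalKrullDim ↥(f.fiber y) ≤ (m' : WithBot ℕ∞) := by
        intro h
        have h1 : y ∈ {s : ↥Y | topologicalKrullDim ↥(f.fiber s) ≤ (m' : WithBot ℕ∞)} := h
        rw [hempty] at h1
        exact h1
      exact succ_le_of_not_le _ m' hy

/-- The dimension formula when all fibres have the same dimension. -/
theorem dim_eq (k : Type u) [Field k] {X Y : Scheme.{u}} (pY : Y ⟶ Spec (CommRingCat.of k))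
    [LocallyOfFiniteType pY] [QuasiCompact pY] (f : X ⟶ Y) [IsProper f]
    (hsurj : Function.Surjective f) (m : ℕ)
    (hall : ∀ y : ↥Y, topologicalKrullDim ↥(f.fiber y) = m) :
    topologicalKrullDim ↥X = topologicalKrullDim ↥Y + m := by
  have h := Groth.Agent.Lib.Helper4.FTDim1.S10884_main k pY f hsurj.denseRange m (fun y _ => by
    rw [← hall y]
    exact (IsHomeomorph.topologicalKrullDim_eq _ (f.fiberHomeo y).isHomeomorph).symm)
  rw [h, add_comm]

/-- Irreducibility of the source when the fibres over closed points are irreducible of constant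
dimension. -/
theorem irreducible_of_fibres {X Y : Scheme.{u}} [JacobsonSpace ↥X] [JacobsonSpace ↥Y]
    [NoetherianSpace ↥X] (f : X ⟶ Y) [IsProper f]
    (hsurj : Function.Surjective f) [IrreducibleSpace ↥Y] (m : ℕ)
    (hirr : ∀ y : ↥Y, IsClosed ({y} : Set ↥Y) → IrreducibleSpace ↥(f.fiber y))
    (hdim : ∀ y : ↥Y, IsClosed ({y} : Set ↥Y) → topologicalKrullDim ↥(f.fiber y) = m) :
    IrreducibleSpace ↥X := by
  classical
  have hfin : (irreducibleComponents (X : Type u)).Finite :=
    TopologicalSpace.NoetherianSpace.finite_irreducibleComponents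
  have hFirr : ∀ y : ↥Y, IsClosed ({y} : Set ↥Y) → IsIrreducible (⇑f ⁻¹' {y} : Set ↥X) := by
    intro y hy
    haveI := hirr y hy
    have h1 : IsIrreducible (Set.univ : Set ↥(f.fiber y)) := IrreducibleSpace.isIrreducible_univ _
    have h2 := h1.image (f.fiberι y) (f.fiberι y).continuous.continuousOn
    rwa [Set.image_univ, Scheme.Hom.range_fiberι] at h2
  have hcomp_cl : ∀ Z ∈ irreducibleComponents (X : Type u), IsClosed Z :=
    fun Z hZ => isClosed_of_mem_irreducibleComponents Z hZ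
  have hFsub : ∀ y : ↥Y, IsClosed ({y} : Set ↥Y) →
      ∃ Z ∈ irreducibleComponents (X : Type u), (⇑f ⁻¹' {y} : Set ↥X) ⊆ Z := by
    intro y hy
    obtain ⟨Z, hZ, hsub⟩ := isIrreducible_iff_sUnion_isClosed.mp (hFirr y hy) hfin.toFinset
      (fun W hW => hcomp_cl W (hfin.mem_toFinset.mp hW))
      (by
        intro x _
        rw [hfin.coe_toFinset, sUnion_irreducibleComponents]
        trivial)
    exact ⟨Z, hfin.mem_toFinset.mp hZ, hsub⟩
  obtain ⟨C, hC⟩ : ∃ C : Set ↥X → Set ↥Y,
      C = fun Z => {y : ↥Y | IsClosed ({y} : Set ↥Y) ∧ (⇑f ⁻¹' {y} : Set ↥X) ⊆ Z} := ⟨_, rfl⟩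
  have hCP : closedPoints ↥Y ⊆ ⋃ Z ∈ irreducibleComponents (X : Type u), C Z := by
    intro y hy
    obtain ⟨Z, hZ, hsub⟩ := hFsub y hy
    refine Set.mem_biUnion hZ ?_
    rw [hC]
    exact ⟨hy, hsub⟩
  obtain ⟨W, hW, hWuniv⟩ := isIrreducible_iff_sUnion_isClosed.mp
      (IrreducibleSpace.isIrreducible_univ ↥Y)
      (hfin.toFinset.image (fun Z => closure (C Z)))
      (by
        intro W hW
        obtain ⟨Z, -, rfl⟩ := Finset.mem_image.mp hW
        exact isClosed_closure)
      (by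
        intro y _
        have hy : y ∈ closure (closedPoints ↥Y) := by
          rw [closure_closedPoints]; trivial
        have h3 := closure_mono hCP hy
        rw [hfin.closure_biUnion] at h3
        obtain ⟨Z, hZ, hyZ⟩ := Set.mem_iUnion₂.mp h3
        exact Set.mem_sUnion.mpr ⟨closure (C Z), Finset.mem_coe.mpr
          (Finset.mem_image.mpr ⟨Z, hfin.mem_toFinset.mpr hZ, rfl⟩), hyZ⟩)
  obtain ⟨Z, hZfin, rfl⟩ := Finset.mem_image.mp hW
  have hZ : Z ∈ irreducibleComponents (X : Type u) := hfin.mem_toFinset.mp hZfin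
  have hZdense : closure (C Z) = Set.univ := Set.eq_univ_of_univ_subset hWuniv
  have hZcl : IsClosed Z := hcomp_cl Z hZ
  obtain ⟨W, ι, hι, hr⟩ : ∃ (W : Scheme.{u}) (ι : W ⟶ X), IsClosedImmersion ι ∧
      Set.range ι = Z := by
    refine ⟨_, (Scheme.IdealSheafData.vanishingIdeal (⟨Z, hZcl⟩ : Closeds X)).subschemeι,
      inferInstance, ?_⟩
    rw [Scheme.IdealSheafData.range_subschemeι, Scheme.IdealSheafData.coe_support_vanishingIdeal]
    rfl
  haveI := hι
  have hemb : Topology.IsEmbedding ι := ι.isEmbedding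
  haveI : IsProper (ι ≫ f) := inferInstance
  have hgfib : ∀ y : ↥Y, topologicalKrullDim ↥((ι ≫ f).fiber y) =
      topologicalKrullDim ↥(Z ∩ ⇑f ⁻¹' {y} : Set ↥X) := by
    intro y
    rw [IsHomeomorph.topologicalKrullDim_eq _ ((ι ≫ f).fiberHomeo y).isHomeomorph]
    have hemb2 : Topology.IsEmbedding (fun w : ↥(⇑(ι ≫ f) ⁻¹' {y} : Set ↥W) => ι w.1) :=
      hemb.comp Topology.IsEmbedding.subtypeVal
    have hrange2 : Set.range (fun w : ↥(⇑(ι ≫ f) ⁻¹' {y} : Set ↥W) => ι w.1) =
        Z ∩ ⇑f ⁻¹' {y} := by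
      ext x
      constructor
      · rintro ⟨w, rfl⟩
        refine ⟨by rw [← hr]; exact ⟨w.1, rfl⟩, ?_⟩
        have h := w.2
        simp only [Set.mem_preimage, Set.mem_singleton_iff, Scheme.Hom.comp_apply] at h ⊢
        exact h
      · rintro ⟨hxZ, hxy⟩
        obtain ⟨w, rfl⟩ : x ∈ Set.range ι := by rw [hr]; exact hxZ
        refine ⟨⟨w, ?_⟩, rfl⟩
        simp only [Set.mem_preimage, Set.mem_singleton_iff, Scheme.Hom.comp_apply] at hxy ⊢
        exact hxy
    rw [IsHomeomorph.topologicalKrullDim_eq _ hemb2.toHomeomorph.isHomeomorph]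
    exact IsHomeomorph.topologicalKrullDim_eq _ (Homeomorph.setCongr hrange2).isHomeomorph
  have hTcl : IsClosed {y : ↥Y | ((m : ℕ) : WithBot ℕ∞) ≤
      topologicalKrullDim ↥((ι ≫ f).fiber y)} :=
    Groth.Agent.Lib.Helper4.Chev3.S3387_main (ι ≫ f) (ι ≫ f).isClosedMap m
  have hCT : C Z ⊆ {y : ↥Y | ((m : ℕ) : WithBot ℕ∞) ≤
      topologicalKrullDim ↥((ι ≫ f).fiber y)} := by
    intro y hyC
    rw [hC] at hyC
    obtain ⟨hy, hsub⟩ := hyC
    show ((m : ℕ) : WithBot ℕ∞) ≤ _
    rw [hgfib y, Set.inter_eq_right.mpr hsub,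
      ← IsHomeomorph.topologicalKrullDim_eq _ (f.fiberHomeo y).isHomeomorph, hdim y hy]
  have hTuniv : ∀ y : ↥Y, ((m : ℕ) : WithBot ℕ∞) ≤ topologicalKrullDim ↥((ι ≫ f).fiber y) := by
    intro y
    have h1 := closure_minimal hCT hTcl
    rw [hZdense] at h1
    exact h1 (Set.mem_univ y)
  have hall : ∀ y : ↥Y, IsClosed ({y} : Set ↥Y) → (⇑f ⁻¹' {y} : Set ↥X) ⊆ Z := by
    intro y hy
    haveI : IrreducibleSpace ↥(⇑f ⁻¹' {y} : Set ↥X) := Subtype.irreducibleSpace (hFirr y hy)
    have hdimF : topologicalKrullDim ↥(⇑f ⁻¹' {y} : Set ↥X) = (m : WithBot ℕ∞) := by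
      rw [← IsHomeomorph.topologicalKrullDim_eq _ (f.fiberHomeo y).isHomeomorph]
      exact hdim y hy
    by_contra hnot
    have hTy_ne : (Subtype.val ⁻¹' Z : Set ↥(⇑f ⁻¹' {y} : Set ↥X)) ≠ Set.univ := by
      intro h
      apply hnot
      intro x hx
      have h1 : (⟨x, hx⟩ : ↥(⇑f ⁻¹' {y} : Set ↥X)) ∈
          (Subtype.val ⁻¹' Z : Set ↥(⇑f ⁻¹' {y} : Set ↥X)) := by
        rw [h]; trivial
      exact h1
    have hlt := Groth.Agent.Helper4.TD.topologicalKrullDim_lt_of_isClosed_ne_univ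
      ↥(⇑f ⁻¹' {y} : Set ↥X) (by rw [hdimF]; exact natCast_ne_top' m)
      (Subtype.val ⁻¹' Z) (hZcl.preimage continuous_subtype_val) hTy_ne
    rw [hdimF, Groth.Agent.Lib.Helper4.JacDim4.tdim_image_val (⇑f ⁻¹' {y} : Set ↥X)
      (Subtype.val ⁻¹' Z), Subtype.image_preimage_coe] at hlt
    have hge := hTuniv y
    rw [hgfib y, Set.inter_comm] at hge
    exact absurd hge (not_le.mpr hlt)
  have hZuniv : Z = Set.univ := by
    apply Set.eq_univ_of_univ_subset
    rw [← closure_closedPoints (X := ↥X)]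
    apply closure_minimal _ hZcl
    intro x hx
    have hx' : IsClosed ({x} : Set ↥X) := hx
    have hfx : IsClosed ({f x} : Set ↥Y) := by
      have h1 := f.isClosedMap _ hx'
      rwa [Set.image_singleton] at h1
    exact hall (f x) hfx rfl
  rw [irreducibleSpace_def]
  change IsIrreducible (Set.univ : Set ↥X)
  rw [← hZuniv]
  exact hZ.1

/-- A proper surjective morphism between proper schemes over a field with irreducible fibres of
constant dimension over the closed points of an irreducible base has irreducible source, and the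
dimensions add. -/
theorem main (k : Type u) [Field k] {X Y : Scheme.{u}}
    (pX : X ⟶ Spec (CommRingCat.of k)) (pY : Y ⟶ Spec (CommRingCat.of k)) [IsProper pX] [IsProper pY]
    (f : X ⟶ Y) (hf : f ≫ pY = pX) (hsurj : Function.Surjective f)
    [IrreducibleSpace ↥Y] (m : ℕ)
    (hirr : ∀ y : ↥Y, IsClosed ({y} : Set ↥Y) → IrreducibleSpace ↥(f.fiber y))
    (hdim : ∀ y : ↥Y, IsClosed ({y} : Set ↥Y) → topologicalKrullDim ↥(f.fiber y) = m) :
    IrreducibleSpace ↥X ∧ topologicalKrullDim ↥X = topologicalKrullDim ↥Y + m := by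
  haveI : IsProper (f ≫ pY) := by rw [hf]; infer_instance
  haveI : IsProper f := IsProper.of_comp f pY
  haveI : JacobsonSpace ↥Y := LocallyOfFiniteType.jacobsonSpace pY
  haveI : JacobsonSpace ↥X := LocallyOfFiniteType.jacobsonSpace pX
  haveI : IsLocallyNoetherian X := LocallyOfFiniteType.isLocallyNoetherian pX
  haveI : CompactSpace ↥X := QuasiCompact.compactSpace_of_compactSpace pX
  haveI : IsNoetherian X := {}
  have hall := fibre_dim_const f hsurj m hdim
  exact ⟨irreducible_of_fibres f hsurj m hirr hdim, dim_eq k pY f hsurj m hall⟩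

end Groth.Agent.Helper7.IrrFibres
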